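import Mathlib
import Cfsg.Agent.Lib.Helper56.TC

/-!
# Eight negated reflections in `O₇(3)` satisfying the relations of the sub-diagram `b, …, i` of `Fi₂₂`

Generated file (helper28): matrices over `ZMod 3` as base-3 codes, all relator products checked by
kernel evaluation, and an orbit certificate for the 702 vectors of norm `-1`.
Generator order: `b, c, d, e, f, h, i, g` (indices `0, …, 7`).
-/

set_option autoImplicit false
set_option maxRecDepth 100000

namespace Cfsg.Agent.Lib.Helper28.O7

open Cfsg.Agent.Lib.Helper56.TC (ew ew_nil ew_cons ew_append)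

/-- the `7 × 7` matrix over `ZMod 3` with base-3 code `c` -/
def mN (c : ℕ) : Matrix (Fin 7) (Fin 7) (ZMod 3) :=
  fun i j => ((c / 3 ^ (7 * i.val + j.val) % 3 : ℕ) : ZMod 3)

/-- the vector over `ZMod 3` with base-3 code `c` -/
def vN (c : ℕ) : Fin 7 → ZMod 3 := fun i => ((c / 3 ^ i.val % 3 : ℕ) : ZMod 3)

/-- the base-3 code of a vector -/
def vC (v : Fin 7 → ZMod 3) : ℕ :=
  (v 0).val + 3 * (v 1).val + 9 * (v 2).val + 27 * (v 3).val + 81 * (v 4).val + 243 * (v 5).val
    + 729 * (v 6).val

/-- the quadratic form `x₀² + x₁x₄ + x₂x₅ + x₃x₆` -/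
def Q7 (v : Fin 7 → ZMod 3) : ZMod 3 := v 0 ^ 2 + v 1 * v 4 + v 2 * v 5 + v 3 * v 6

/-- codes of the eight generator matrices -/
def cA (k : ℕ) : ℕ :=
  match k with
  | 0 => 159533790428164363034150
  | 1 => 6992912779967134185266
  | 2 => 5932944465311440035110
  | 3 => 211416107728005899264720
  | 4 => 85808806531608352148874
  | 5 => 70631863266644779784420
  | 6 => 159557201622488833834790
  | _ => 104081810592268556553602

/-- codes of the eight generator vectors -/
def cV (k : ℕ) : ℕ :=
  match k with
  | 0 => 495
  | 1 => 1728
  | 2 => 1485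
  | 3 => 1317
  | 4 => 757
  | 5 => 2154
  | 6 => 165
  | _ => 1680

/-- the generator matrices (index taken mod 8) -/
def A (k : ℕ) : Matrix (Fin 7) (Fin 7) (ZMod 3) := mN (cA (k % 8))

theorem A_0 : A 0 = mN 159533790428164363034150 := rfl
theorem A_1 : A 1 = mN 6992912779967134185266 := rfl
theorem A_2 : A 2 = mN 5932944465311440035110 := rfl
theorem A_3 : A 3 = mN 211416107728005899264720 := rfl
theorem A_4 : A 4 = mN 85808806531608352148874 := rfl
theorem A_5 : A 5 = mN 70631863266644779784420 := rfl
theorem A_6 : A 6 = mN 159557201622488833834790 := rfl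
theorem A_7 : A 7 = mN 104081810592268556553602 := rfl

theorem mN_one : mN 79778602595634228233767 = 1 := by decide +kernel

theorem ew_rep {G : Type*} [Monoid G] (g : ℕ → G) (b : List ℕ) (m : ℕ) :
    ew g (List.flatten (List.replicate m b)) = ew g b ^ m := by
  induction m with
  | zero => simp [ew]
  | succ n ih => rw [List.replicate_succ, List.flatten_cons, ew_append, ih, pow_succ']

theorem pw2 {M : Type*} [Monoid M] (x : M) (h : x * x = 1) : x ^ 2 = 1 := by rw [sq, h]

theorem pw3 {M : Type*} [Monoid M] (x x2 : M) (h2 : x * x = x2) (h3 : x2 * x = 1) : x ^ 3 = 1 := by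
  rw [pow_succ, sq, h2, h3]

theorem pw9 {M : Type*} [Monoid M] (x x2 x4 x8 : M) (h2 : x * x = x2) (h4 : x2 * x2 = x4)
    (h8 : x4 * x4 = x8) (h9 : x8 * x = 1) : x ^ 9 = 1 := by
  have e : x ^ 9 = ((x * x) * (x * x)) * ((x * x) * (x * x)) * x := by
    simp only [pow_succ, pow_zero, one_mul, mul_assoc]
  rw [e, h2, h4, h8, h9]

theorem pw10 {M : Type*} [Monoid M] (x x2 x4 x8 : M) (h2 : x * x = x2) (h4 : x2 * x2 = x4)
    (h8 : x4 * x4 = x8) (h10 : x8 * x2 = 1) : x ^ 10 = 1 := by
  have e : x ^ 10 = ((x * x) * (x * x)) * ((x * x) * (x * x)) * (x * x) := by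
    simp only [pow_succ, pow_zero, one_mul, mul_assoc]
  rw [e, h2, h4, h8, h10]

theorem mm_0 : mN 159533790428164363034150 * mN 6992912779967134185266 = mN 4924306655568827056900 := by decide +kernel
theorem mm_1 : mN 4924306655568827056900 * mN 4924306655568827056900 = mN 56183725936832119404148 := by decide +kernel
theorem mm_2 : mN 56183725936832119404148 * mN 4924306655568827056900 = mN 79778602595634228233767 := by decide +kernel
theorem relA_0 : ew A [0, 1, 0, 1, 0, 1] = 1 := by
  have hb : ew A [0, 1] = mN 4924306655568827056900 := by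
    simp only [ew, List.map_cons, List.map_nil, List.prod_cons, List.prod_nil, mul_one, A_0, A_1]
    rw [mm_0]
  have hw : ew A [0, 1, 0, 1, 0, 1] = ew A [0, 1] ^ 3 := ew_rep A [0, 1] 3
  rw [hw, hb]
  exact pw3 _ _ mm_1 (mm_2.trans mN_one)

theorem mm_3 : mN 159533790428164363034150 * mN 5932944465311440035110 = mN 2954764851103673300863 := by decide +kernel
theorem mm_4 : mN 2954764851103673300863 * mN 2954764851103673300863 = mN 79778602595634228233767 := by decide +kernel
theorem relA_1 : ew A [0, 2, 0, 2] = 1 := by
  have hb : ew A [0, 2] = mN 2954764851103673300863 := by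
    simp only [ew, List.map_cons, List.map_nil, List.prod_cons, List.prod_nil, mul_one, A_0, A_2]
    rw [mm_3]
  have hw : ew A [0, 2, 0, 2] = ew A [0, 2] ^ 2 := ew_rep A [0, 2] 2
  rw [hw, hb]
  exact pw2 _ (mm_4.trans mN_one)

theorem mm_5 : mN 159533790428164363034150 * mN 211416107728005899264720 = mN 147083302551568836565054 := by decide +kernel
theorem mm_6 : mN 147083302551568836565054 * mN 147083302551568836565054 = mN 79778602595634228233767 := by decide +kernel
theorem relA_2 : ew A [0, 3, 0, 3] = 1 := by
  have hb : ew A [0, 3] = mN 147083302551568836565054 := by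
    simp only [ew, List.map_cons, List.map_nil, List.prod_cons, List.prod_nil, mul_one, A_0, A_3]
    rw [mm_5]
  have hw : ew A [0, 3, 0, 3] = ew A [0, 3] ^ 2 := ew_rep A [0, 3] 2
  rw [hw, hb]
  exact pw2 _ (mm_6.trans mN_one)

theorem mm_7 : mN 159533790428164363034150 * mN 85808806531608352148874 = mN 162706488983697497526126 := by decide +kernel
theorem mm_8 : mN 162706488983697497526126 * mN 162706488983697497526126 = mN 79778602595634228233767 := by decide +kernel
theorem relA_3 : ew A [0, 4, 0, 4] = 1 := by
  have hb : ew A [0, 4] = mN 162706488983697497526126 := by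
    simp only [ew, List.map_cons, List.map_nil, List.prod_cons, List.prod_nil, mul_one, A_0, A_4]
    rw [mm_7]
  have hw : ew A [0, 4, 0, 4] = ew A [0, 4] ^ 2 := ew_rep A [0, 4] 2
  rw [hw, hb]
  exact pw2 _ (mm_8.trans mN_one)

theorem mm_9 : mN 159533790428164363034150 * mN 70631863266644779784420 = mN 48677681276512476249295 := by decide +kernel
theorem mm_10 : mN 48677681276512476249295 * mN 48677681276512476249295 = mN 79778602595634228233767 := by decide +kernel
theorem relA_4 : ew A [0, 5, 0, 5] = 1 := by
  have hb : ew A [0, 5] = mN 48677681276512476249295 := by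
    simp only [ew, List.map_cons, List.map_nil, List.prod_cons, List.prod_nil, mul_one, A_0, A_5]
    rw [mm_9]
  have hw : ew A [0, 5, 0, 5] = ew A [0, 5] ^ 2 := ew_rep A [0, 5] 2
  rw [hw, hb]
  exact pw2 _ (mm_10.trans mN_one)

theorem mm_11 : mN 159533790428164363034150 * mN 159557201622488833834790 = mN 79766893429692370200703 := by decide +kernel
theorem mm_12 : mN 79766893429692370200703 * mN 79766893429692370200703 = mN 79778602595634228233767 := by decide +kernel
theorem relA_5 : ew A [0, 6, 0, 6] = 1 := by
  have hb : ew A [0, 6] = mN 79766893429692370200703 := by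
    simp only [ew, List.map_cons, List.map_nil, List.prod_cons, List.prod_nil, mul_one, A_0, A_6]
    rw [mm_11]
  have hw : ew A [0, 6, 0, 6] = ew A [0, 6] ^ 2 := ew_rep A [0, 6] 2
  rw [hw, hb]
  exact pw2 _ (mm_12.trans mN_one)

theorem mm_13 : mN 159533790428164363034150 * mN 104081810592268556553602 = mN 171678865309844923947475 := by decide +kernel
theorem mm_14 : mN 171678865309844923947475 * mN 171678865309844923947475 = mN 79778602595634228233767 := by decide +kernel
theorem relA_6 : ew A [0, 7, 0, 7] = 1 := by
  have hb : ew A [0, 7] = mN 171678865309844923947475 := by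
    simp only [ew, List.map_cons, List.map_nil, List.prod_cons, List.prod_nil, mul_one, A_0, A_7]
    rw [mm_13]
  have hw : ew A [0, 7, 0, 7] = ew A [0, 7] ^ 2 := ew_rep A [0, 7] 2
  rw [hw, hb]
  exact pw2 _ (mm_14.trans mN_one)

theorem mm_15 : mN 6992912779967134185266 * mN 5932944465311440035110 = mN 81822891528473499440614 := by decide +kernel
theorem mm_16 : mN 81822891528473499440614 * mN 81822891528473499440614 = mN 80802998481724533592246 := by decide +kernel
theorem mm_17 : mN 80802998481724533592246 * mN 81822891528473499440614 = mN 79778602595634228233767 := by decide +kernel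
theorem relA_7 : ew A [1, 2, 1, 2, 1, 2] = 1 := by
  have hb : ew A [1, 2] = mN 81822891528473499440614 := by
    simp only [ew, List.map_cons, List.map_nil, List.prod_cons, List.prod_nil, mul_one, A_1, A_2]
    rw [mm_15]
  have hw : ew A [1, 2, 1, 2, 1, 2] = ew A [1, 2] ^ 3 := ew_rep A [1, 2] 3
  rw [hw, hb]
  exact pw3 _ _ mm_16 (mm_17.trans mN_one)

theorem mm_18 : mN 6992912779967134185266 * mN 211416107728005899264720 = mN 69333681096618295803157 := by decide +kernel
theorem mm_19 : mN 69333681096618295803157 * mN 69333681096618295803157 = mN 79778602595634228233767 := by decide +kernel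
theorem relA_8 : ew A [1, 3, 1, 3] = 1 := by
  have hb : ew A [1, 3] = mN 69333681096618295803157 := by
    simp only [ew, List.map_cons, List.map_nil, List.prod_cons, List.prod_nil, mul_one, A_1, A_3]
    rw [mm_18]
  have hw : ew A [1, 3, 1, 3] = ew A [1, 3] ^ 2 := ew_rep A [1, 3] 2
  rw [hw, hb]
  exact pw2 _ (mm_19.trans mN_one)

theorem mm_20 : mN 6992912779967134185266 * mN 85808806531608352148874 = mN 87915232790450809439139 := by decide +kernel
theorem mm_21 : mN 87915232790450809439139 * mN 87915232790450809439139 = mN 79778602595634228233767 := by decide +kernel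
theorem relA_9 : ew A [1, 4, 1, 4] = 1 := by
  have hb : ew A [1, 4] = mN 87915232790450809439139 := by
    simp only [ew, List.map_cons, List.map_nil, List.prod_cons, List.prod_nil, mul_one, A_1, A_4]
    rw [mm_20]
  have hw : ew A [1, 4, 1, 4] = ew A [1, 4] ^ 2 := ew_rep A [1, 4] 2
  rw [hw, hb]
  exact pw2 _ (mm_21.trans mN_one)

theorem mm_22 : mN 6992912779967134185266 * mN 70631863266644779784420 = mN 210117970063612811791234 := by decide +kernel
theorem mm_23 : mN 210117970063612811791234 * mN 210117970063612811791234 = mN 79778602595634228233767 := by decide +kernel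
theorem relA_10 : ew A [1, 5, 1, 5] = 1 := by
  have hb : ew A [1, 5] = mN 210117970063612811791234 := by
    simp only [ew, List.map_cons, List.map_nil, List.prod_cons, List.prod_nil, mul_one, A_1, A_5]
    rw [mm_22]
  have hw : ew A [1, 5, 1, 5] = ew A [1, 5] ^ 2 := ew_rep A [1, 5] 2
  rw [hw, hb]
  exact pw2 _ (mm_23.trans mN_one)

theorem mm_24 : mN 6992912779967134185266 * mN 159557201622488833834790 = mN 4975637236445682113716 := by decide +kernel
theorem mm_25 : mN 4975637236445682113716 * mN 4975637236445682113716 = mN 79778602595634228233767 := by decide +kernel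
theorem relA_11 : ew A [1, 6, 1, 6] = 1 := by
  have hb : ew A [1, 6] = mN 4975637236445682113716 := by
    simp only [ew, List.map_cons, List.map_nil, List.prod_cons, List.prod_nil, mul_one, A_1, A_6]
    rw [mm_24]
  have hw : ew A [1, 6, 1, 6] = ew A [1, 6] ^ 2 := ew_rep A [1, 6] 2
  rw [hw, hb]
  exact pw2 _ (mm_25.trans mN_one)

theorem mm_26 : mN 6992912779967134185266 * mN 104081810592268556553602 = mN 96887609116598235860488 := by decide +kernel
theorem mm_27 : mN 96887609116598235860488 * mN 96887609116598235860488 = mN 79778602595634228233767 := by decide +kernel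
theorem relA_12 : ew A [1, 7, 1, 7] = 1 := by
  have hb : ew A [1, 7] = mN 96887609116598235860488 := by
    simp only [ew, List.map_cons, List.map_nil, List.prod_cons, List.prod_nil, mul_one, A_1, A_7]
    rw [mm_26]
  have hw : ew A [1, 7, 1, 7] = ew A [1, 7] ^ 2 := ew_rep A [1, 7] 2
  rw [hw, hb]
  exact pw2 _ (mm_27.trans mN_one)

theorem mm_28 : mN 5932944465311440035110 * mN 211416107728005899264720 = mN 2990201260695391371844 := by decide +kernel
theorem mm_29 : mN 2990201260695391371844 * mN 2990201260695391371844 = mN 147165270289298067025252 := by decide +kernel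
theorem mm_30 : mN 147165270289298067025252 * mN 2990201260695391371844 = mN 79778602595634228233767 := by decide +kernel
theorem relA_13 : ew A [2, 3, 2, 3, 2, 3] = 1 := by
  have hb : ew A [2, 3] = mN 2990201260695391371844 := by
    simp only [ew, List.map_cons, List.map_nil, List.prod_cons, List.prod_nil, mul_one, A_2, A_3]
    rw [mm_28]
  have hw : ew A [2, 3, 2, 3, 2, 3] = ew A [2, 3] ^ 3 := ew_rep A [2, 3] 3
  rw [hw, hb]
  exact pw3 _ _ mm_29 (mm_30.trans mN_one)

theorem mm_31 : mN 5932944465311440035110 * mN 85808806531608352148874 = mN 85906066002271036026606 := by decide +kernel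
theorem mm_32 : mN 85906066002271036026606 * mN 85906066002271036026606 = mN 79778602595634228233767 := by decide +kernel
theorem relA_14 : ew A [2, 4, 2, 4] = 1 := by
  have hb : ew A [2, 4] = mN 85906066002271036026606 := by
    simp only [ew, List.map_cons, List.map_nil, List.prod_cons, List.prod_nil, mul_one, A_2, A_4]
    rw [mm_31]
  have hw : ew A [2, 4, 2, 4] = ew A [2, 4] ^ 2 := ew_rep A [2, 4] 2
  rw [hw, hb]
  exact pw2 _ (mm_32.trans mN_one)

theorem mm_33 : mN 5932944465311440035110 * mN 70631863266644779784420 = mN 144540423128106080227243 := by decide +kernel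
theorem mm_34 : mN 144540423128106080227243 * mN 144540423128106080227243 = mN 125466380816871873896299 := by decide +kernel
theorem mm_35 : mN 125466380816871873896299 * mN 144540423128106080227243 = mN 79778602595634228233767 := by decide +kernel
theorem relA_15 : ew A [2, 5, 2, 5, 2, 5] = 1 := by
  have hb : ew A [2, 5] = mN 144540423128106080227243 := by
    simp only [ew, List.map_cons, List.map_nil, List.prod_cons, List.prod_nil, mul_one, A_2, A_5]
    rw [mm_33]
  have hw : ew A [2, 5, 2, 5, 2, 5] = ew A [2, 5] ^ 3 := ew_rep A [2, 5] 3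
  rw [hw, hb]
  exact pw3 _ _ mm_34 (mm_35.trans mN_one)

theorem mm_36 : mN 5932944465311440035110 * mN 159557201622488833834790 = mN 2966470448265908701183 := by decide +kernel
theorem mm_37 : mN 2966470448265908701183 * mN 2966470448265908701183 = mN 79778602595634228233767 := by decide +kernel
theorem relA_16 : ew A [2, 6, 2, 6] = 1 := by
  have hb : ew A [2, 6] = mN 2966470448265908701183 := by
    simp only [ew, List.map_cons, List.map_nil, List.prod_cons, List.prod_nil, mul_one, A_2, A_6]
    rw [mm_36]
  have hw : ew A [2, 6, 2, 6] = ew A [2, 6] ^ 2 := ew_rep A [2, 6] 2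
  rw [hw, hb]
  exact pw2 _ (mm_37.trans mN_one)

theorem mm_38 : mN 5932944465311440035110 * mN 104081810592268556553602 = mN 94878442328418462447955 := by decide +kernel
theorem mm_39 : mN 94878442328418462447955 * mN 94878442328418462447955 = mN 79778602595634228233767 := by decide +kernel
theorem relA_17 : ew A [2, 7, 2, 7] = 1 := by
  have hb : ew A [2, 7] = mN 94878442328418462447955 := by
    simp only [ew, List.map_cons, List.map_nil, List.prod_cons, List.prod_nil, mul_one, A_2, A_7]
    rw [mm_38]
  have hw : ew A [2, 7, 2, 7] = ew A [2, 7] ^ 2 := ew_rep A [2, 7] 2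
  rw [hw, hb]
  exact pw2 _ (mm_39.trans mN_one)

theorem mm_40 : mN 211416107728005899264720 * mN 85808806531608352148874 = mN 64555335659955299117796 := by decide +kernel
theorem mm_41 : mN 64555335659955299117796 * mN 64555335659955299117796 = mN 205743588121126284157416 := by decide +kernel
theorem mm_42 : mN 205743588121126284157416 * mN 64555335659955299117796 = mN 79778602595634228233767 := by decide +kernel
theorem relA_18 : ew A [3, 4, 3, 4, 3, 4] = 1 := by
  have hb : ew A [3, 4] = mN 64555335659955299117796 := by
    simp only [ew, List.map_cons, List.map_nil, List.prod_cons, List.prod_nil, mul_one, A_3, A_4]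
    rw [mm_40]
  have hw : ew A [3, 4, 3, 4, 3, 4] = ew A [3, 4] ^ 3 := ew_rep A [3, 4] 3
  rw [hw, hb]
  exact pw3 _ _ mm_41 (mm_42.trans mN_one)

theorem mm_43 : mN 211416107728005899264720 * mN 70631863266644779784420 = mN 6643075057418373825466 := by decide +kernel
theorem mm_44 : mN 6643075057418373825466 * mN 6643075057418373825466 = mN 79778602595634228233767 := by decide +kernel
theorem relA_19 : ew A [3, 5, 3, 5] = 1 := by
  have hb : ew A [3, 5] = mN 6643075057418373825466 := by
    simp only [ew, List.map_cons, List.map_nil, List.prod_cons, List.prod_nil, mul_one, A_3, A_5]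
    rw [mm_43]
  have hw : ew A [3, 5, 3, 5] = ew A [3, 5] ^ 2 := ew_rep A [3, 5] 2
  rw [hw, hb]
  exact pw2 _ (mm_44.trans mN_one)

theorem mm_45 : mN 211416107728005899264720 * mN 159557201622488833834790 = mN 147095008148731071965374 := by decide +kernel
theorem mm_46 : mN 147095008148731071965374 * mN 147095008148731071965374 = mN 79778602595634228233767 := by decide +kernel
theorem relA_20 : ew A [3, 6, 3, 6] = 1 := by
  have hb : ew A [3, 6] = mN 147095008148731071965374 := by
    simp only [ew, List.map_cons, List.map_nil, List.prod_cons, List.prod_nil, mul_one, A_3, A_6]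
    rw [mm_45]
  have hw : ew A [3, 6, 3, 6] = ew A [3, 6] ^ 2 := ew_rep A [3, 6] 2
  rw [hw, hb]
  exact pw2 _ (mm_46.trans mN_one)

theorem mm_47 : mN 211416107728005899264720 * mN 104081810592268556553602 = mN 239006974469823059136940 := by decide +kernel
theorem mm_48 : mN 239006974469823059136940 * mN 239006974469823059136940 = mN 79778602595634228233767 := by decide +kernel
theorem relA_21 : ew A [3, 7, 3, 7] = 1 := by
  have hb : ew A [3, 7] = mN 239006974469823059136940 := by
    simp only [ew, List.map_cons, List.map_nil, List.prod_cons, List.prod_nil, mul_one, A_3, A_7]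
    rw [mm_47]
  have hw : ew A [3, 7, 3, 7] = ew A [3, 7] ^ 2 := ew_rep A [3, 7] 2
  rw [hw, hb]
  exact pw2 _ (mm_48.trans mN_one)

theorem mm_49 : mN 85808806531608352148874 * mN 70631863266644779784420 = mN 131628982427679838975038 := by decide +kernel
theorem mm_50 : mN 131628982427679838975038 * mN 131628982427679838975038 = mN 79778602595634228233767 := by decide +kernel
theorem relA_22 : ew A [4, 5, 4, 5] = 1 := by
  have hb : ew A [4, 5] = mN 131628982427679838975038 := by
    simp only [ew, List.map_cons, List.map_nil, List.prod_cons, List.prod_nil, mul_one, A_4, A_5]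
    rw [mm_49]
  have hw : ew A [4, 5, 4, 5] = ew A [4, 5] ^ 2 := ew_rep A [4, 5] 2
  rw [hw, hb]
  exact pw2 _ (mm_50.trans mN_one)

theorem mm_51 : mN 85808806531608352148874 * mN 159557201622488833834790 = mN 162718194580859732926446 := by decide +kernel
theorem mm_52 : mN 162718194580859732926446 * mN 162718194580859732926446 = mN 79778602595634228233767 := by decide +kernel
theorem relA_23 : ew A [4, 6, 4, 6] = 1 := by
  have hb : ew A [4, 6] = mN 162718194580859732926446 := by
    simp only [ew, List.map_cons, List.map_nil, List.prod_cons, List.prod_nil, mul_one, A_4, A_6]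
    rw [mm_51]
  have hw : ew A [4, 6, 4, 6] = ew A [4, 6] ^ 2 := ew_rep A [4, 6] 2
  rw [hw, hb]
  exact pw2 _ (mm_52.trans mN_one)

theorem mm_53 : mN 85808806531608352148874 * mN 104081810592268556553602 = mN 162718215581755208246550 := by decide +kernel
theorem mm_54 : mN 162718215581755208246550 * mN 162718215581755208246550 = mN 171690555419418665518182 := by decide +kernel
theorem mm_55 : mN 171690555419418665518182 * mN 162718215581755208246550 = mN 79778602595634228233767 := by decide +kernel
theorem relA_24 : ew A [4, 7, 4, 7, 4, 7] = 1 := by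
  have hb : ew A [4, 7] = mN 162718215581755208246550 := by
    simp only [ew, List.map_cons, List.map_nil, List.prod_cons, List.prod_nil, mul_one, A_4, A_7]
    rw [mm_53]
  have hw : ew A [4, 7, 4, 7, 4, 7] = ew A [4, 7] ^ 3 := ew_rep A [4, 7] 3
  rw [hw, hb]
  exact pw3 _ _ mm_54 (mm_55.trans mN_one)

theorem mm_56 : mN 70631863266644779784420 * mN 159557201622488833834790 = mN 40150806830494182765163 := by decide +kernel
theorem mm_57 : mN 40150806830494182765163 * mN 40150806830494182765163 = mN 48689380147897730534059 := by decide +kernel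
theorem mm_58 : mN 48689380147897730534059 * mN 40150806830494182765163 = mN 79778602595634228233767 := by decide +kernel
theorem relA_25 : ew A [5, 6, 5, 6, 5, 6] = 1 := by
  have hb : ew A [5, 6] = mN 40150806830494182765163 := by
    simp only [ew, List.map_cons, List.map_nil, List.prod_cons, List.prod_nil, mul_one, A_5, A_6]
    rw [mm_56]
  have hw : ew A [5, 6, 5, 6, 5, 6] = ew A [5, 6] ^ 3 := ew_rep A [5, 6] 3
  rw [hw, hb]
  exact pw3 _ _ mm_57 (mm_58.trans mN_one)

theorem mm_59 : mN 70631863266644779784420 * mN 104081810592268556553602 = mN 114012494363230519752919 := by decide +kernel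
theorem mm_60 : mN 114012494363230519752919 * mN 114012494363230519752919 = mN 79778602595634228233767 := by decide +kernel
theorem relA_26 : ew A [5, 7, 5, 7] = 1 := by
  have hb : ew A [5, 7] = mN 114012494363230519752919 := by
    simp only [ew, List.map_cons, List.map_nil, List.prod_cons, List.prod_nil, mul_one, A_5, A_7]
    rw [mm_59]
  have hw : ew A [5, 7, 5, 7] = ew A [5, 7] ^ 2 := ew_rep A [5, 7] 2
  rw [hw, hb]
  exact pw2 _ (mm_60.trans mN_one)

theorem mm_61 : mN 159557201622488833834790 * mN 104081810592268556553602 = mN 171690570907007159347795 := by decide +kernel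
theorem mm_62 : mN 171690570907007159347795 * mN 171690570907007159347795 = mN 79778602595634228233767 := by decide +kernel
theorem relA_27 : ew A [6, 7, 6, 7] = 1 := by
  have hb : ew A [6, 7] = mN 171690570907007159347795 := by
    simp only [ew, List.map_cons, List.map_nil, List.prod_cons, List.prod_nil, mul_one, A_6, A_7]
    rw [mm_61]
  have hw : ew A [6, 7, 6, 7] = ew A [6, 7] ^ 2 := ew_rep A [6, 7] 2
  rw [hw, hb]
  exact pw2 _ (mm_62.trans mN_one)

theorem mm_63 : mN 104081810592268556553602 * mN 70631863266644779784420 = mN 114012494363230519752919 := by decide +kernel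
theorem mm_64 : mN 85808806531608352148874 * mN 114012494363230519752919 = mN 227319842038475102683854 := by decide +kernel
theorem mm_65 : mN 211416107728005899264720 * mN 227319842038475102683854 = mN 98012149127537357687118 := by decide +kernel
theorem mm_66 : mN 5932944465311440035110 * mN 98012149127537357687118 = mN 131453585848478007833583 := by decide +kernel
theorem mm_67 : mN 6992912779967134185266 * mN 131453585848478007833583 = mN 186208607353222289433354 := by decide +kernel
theorem mm_68 : mN 159533790428164363034150 * mN 186208607353222289433354 = mN 132997159082685190218321 := by decide +kernel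
theorem mm_69 : mN 132997159082685190218321 * mN 132997159082685190218321 = mN 44806980552015825852050 := by decide +kernel
theorem mm_70 : mN 44806980552015825852050 * mN 44806980552015825852050 = mN 76768767977737779167938 := by decide +kernel
theorem mm_71 : mN 76768767977737779167938 * mN 76768767977737779167938 = mN 230505288799800251855796 := by decide +kernel
theorem mm_72 : mN 230505288799800251855796 * mN 132997159082685190218321 = mN 79778602595634228233767 := by decide +kernel
theorem relA_28 : ew A [0, 1, 2, 3, 4, 7, 5, 0, 1, 2, 3, 4, 7, 5, 0, 1, 2, 3, 4, 7, 5, 0, 1, 2, 3, 4, 7, 5, 0, 1, 2, 3, 4, 7, 5, 0, 1, 2, 3, 4, 7, 5, 0, 1, 2, 3, 4, 7, 5, 0, 1, 2, 3, 4, 7, 5, 0, 1, 2, 3, 4, 7, 5] = 1 := by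
  have hb : ew A [0, 1, 2, 3, 4, 7, 5] = mN 132997159082685190218321 := by
    simp only [ew, List.map_cons, List.map_nil, List.prod_cons, List.prod_nil, mul_one, A_0, A_1, A_2, A_3, A_4, A_5, A_7]
    rw [mm_63, mm_64, mm_65, mm_66, mm_67, mm_68]
  have hw : ew A [0, 1, 2, 3, 4, 7, 5, 0, 1, 2, 3, 4, 7, 5, 0, 1, 2, 3, 4, 7, 5, 0, 1, 2, 3, 4, 7, 5, 0, 1, 2, 3, 4, 7, 5, 0, 1, 2, 3, 4, 7, 5, 0, 1, 2, 3, 4, 7, 5, 0, 1, 2, 3, 4, 7, 5, 0, 1, 2, 3, 4, 7, 5] = ew A [0, 1, 2, 3, 4, 7, 5] ^ 9 := ew_rep A [0, 1, 2, 3, 4, 7, 5] 9
  rw [hw, hb]
  exact pw9 _ _ _ _ mm_69 mm_70 mm_71 (mm_72.trans mN_one)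

theorem mm_73 : mN 5932944465311440035110 * mN 40150806830494182765163 = mN 196686444763394408384804 := by decide +kernel
theorem mm_74 : mN 85808806531608352148874 * mN 196686444763394408384804 = mN 236010797373035168972406 := by decide +kernel
theorem mm_75 : mN 211416107728005899264720 * mN 236010797373035168972406 = mN 94828567289590988032230 := by decide +kernel
theorem mm_76 : mN 5932944465311440035110 * mN 94828567289590988032230 = mN 123077548435670004384783 := by decide +kernel
theorem mm_77 : mN 159533790428164363034150 * mN 123077548435670004384783 = mN 235846229503522930340580 := by decide +kernel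
theorem mm_78 : mN 6992912779967134185266 * mN 235846229503522930340580 = mN 62070183025639610972328 := by decide +kernel
theorem mm_79 : mN 5932944465311440035110 * mN 62070183025639610972328 = mN 37770441883949085506271 := by decide +kernel
theorem mm_80 : mN 37770441883949085506271 * mN 37770441883949085506271 = mN 182945978377589159662092 := by decide +kernel
theorem mm_81 : mN 182945978377589159662092 * mN 182945978377589159662092 = mN 16541837408493724720195 := by decide +kernel
theorem mm_82 : mN 16541837408493724720195 * mN 16541837408493724720195 = mN 154616202322523179894227 := by decide +kernel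
theorem mm_83 : mN 154616202322523179894227 * mN 182945978377589159662092 = mN 79778602595634228233767 := by decide +kernel
theorem relA_29 : ew A [2, 1, 0, 2, 3, 4, 2, 5, 6, 2, 1, 0, 2, 3, 4, 2, 5, 6, 2, 1, 0, 2, 3, 4, 2, 5, 6, 2, 1, 0, 2, 3, 4, 2, 5, 6, 2, 1, 0, 2, 3, 4, 2, 5, 6, 2, 1, 0, 2, 3, 4, 2, 5, 6, 2, 1, 0, 2, 3, 4, 2, 5, 6, 2, 1, 0, 2, 3, 4, 2, 5, 6, 2, 1, 0, 2, 3, 4, 2, 5, 6, 2, 1, 0, 2, 3, 4, 2, 5, 6] = 1 := by
  have hb : ew A [2, 1, 0, 2, 3, 4, 2, 5, 6] = mN 37770441883949085506271 := by
    simp only [ew, List.map_cons, List.map_nil, List.prod_cons, List.prod_nil, mul_one, A_0, A_1, A_2, A_3, A_4, A_5, A_6]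
    rw [mm_56, mm_73, mm_74, mm_75, mm_76, mm_77, mm_78, mm_79]
  have hw : ew A [2, 1, 0, 2, 3, 4, 2, 5, 6, 2, 1, 0, 2, 3, 4, 2, 5, 6, 2, 1, 0, 2, 3, 4, 2, 5, 6, 2, 1, 0, 2, 3, 4, 2, 5, 6, 2, 1, 0, 2, 3, 4, 2, 5, 6, 2, 1, 0, 2, 3, 4, 2, 5, 6, 2, 1, 0, 2, 3, 4, 2, 5, 6, 2, 1, 0, 2, 3, 4, 2, 5, 6, 2, 1, 0, 2, 3, 4, 2, 5, 6, 2, 1, 0, 2, 3, 4, 2, 5, 6] = ew A [2, 1, 0, 2, 3, 4, 2, 5, 6] ^ 10 := ew_rep A [2, 1, 0, 2, 3, 4, 2, 5, 6] 10
  rw [hw, hb]
  exact pw10 _ _ _ _ mm_80 mm_81 mm_82 (mm_83.trans mN_one)

theorem mm_84 : mN 159533790428164363034150 * mN 159533790428164363034150 = mN 79778602595634228233767 := by decide +kernel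
theorem invA_0 : A 0 * A 0 = 1 := by rw [A_0, mm_84, mN_one]
theorem mm_85 : mN 6992912779967134185266 * mN 6992912779967134185266 = mN 79778602595634228233767 := by decide +kernel
theorem invA_1 : A 1 * A 1 = 1 := by rw [A_1, mm_85, mN_one]
theorem mm_86 : mN 5932944465311440035110 * mN 5932944465311440035110 = mN 79778602595634228233767 := by decide +kernel
theorem invA_2 : A 2 * A 2 = 1 := by rw [A_2, mm_86, mN_one]
theorem mm_87 : mN 211416107728005899264720 * mN 211416107728005899264720 = mN 79778602595634228233767 := by decide +kernel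
theorem invA_3 : A 3 * A 3 = 1 := by rw [A_3, mm_87, mN_one]
theorem mm_88 : mN 85808806531608352148874 * mN 85808806531608352148874 = mN 79778602595634228233767 := by decide +kernel
theorem invA_4 : A 4 * A 4 = 1 := by rw [A_4, mm_88, mN_one]
theorem mm_89 : mN 70631863266644779784420 * mN 70631863266644779784420 = mN 79778602595634228233767 := by decide +kernel
theorem invA_5 : A 5 * A 5 = 1 := by rw [A_5, mm_89, mN_one]
theorem mm_90 : mN 159557201622488833834790 * mN 159557201622488833834790 = mN 79778602595634228233767 := by decide +kernel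
theorem invA_6 : A 6 * A 6 = 1 := by rw [A_6, mm_90, mN_one]
theorem mm_91 : mN 104081810592268556553602 * mN 104081810592268556553602 = mN 79778602595634228233767 := by decide +kernel
theorem invA_7 : A 7 * A 7 = 1 := by rw [A_7, mm_91, mN_one]

theorem mm_92 : mN 6992912779967134185266 * mN 159533790428164363034150 = mN 56183725936832119404148 := by decide +kernel
theorem mN_ne : mN 4924306655568827056900 ≠ mN 56183725936832119404148 := by decide +kernel
theorem A01_ne : A 0 * A 1 ≠ A 1 * A 0 := by rw [A_0, A_1, mm_0, mm_92]; exact mN_ne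

/-- the relators: Coxeter relations of the diagram, the `E₇` relation and the spider relation -/
def relW : List (List ℕ) :=
  [[0, 1, 0, 1, 0, 1],
   [0, 2, 0, 2],
   [0, 3, 0, 3],
   [0, 4, 0, 4],
   [0, 5, 0, 5],
   [0, 6, 0, 6],
   [0, 7, 0, 7],
   [1, 2, 1, 2, 1, 2],
   [1, 3, 1, 3],
   [1, 4, 1, 4],
   [1, 5, 1, 5],
   [1, 6, 1, 6],
   [1, 7, 1, 7],
   [2, 3, 2, 3, 2, 3],
   [2, 4, 2, 4],
   [2, 5, 2, 5, 2, 5],
   [2, 6, 2, 6],
   [2, 7, 2, 7],
   [3, 4, 3, 4, 3, 4],
   [3, 5, 3, 5],
   [3, 6, 3, 6],
   [3, 7, 3, 7],
   [4, 5, 4, 5],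
   [4, 6, 4, 6],
   [4, 7, 4, 7, 4, 7],
   [5, 6, 5, 6, 5, 6],
   [5, 7, 5, 7],
   [6, 7, 6, 7],
   [0, 1, 2, 3, 4, 7, 5, 0, 1, 2, 3, 4, 7, 5, 0, 1, 2, 3, 4, 7, 5, 0, 1, 2, 3, 4, 7, 5, 0, 1, 2, 3, 4, 7, 5, 0, 1, 2, 3, 4, 7, 5, 0, 1, 2, 3, 4, 7, 5, 0, 1, 2, 3, 4, 7, 5, 0, 1, 2, 3, 4, 7, 5],
   [2, 1, 0, 2, 3, 4, 2, 5, 6, 2, 1, 0, 2, 3, 4, 2, 5, 6, 2, 1, 0, 2, 3, 4, 2, 5, 6, 2, 1, 0, 2, 3, 4, 2, 5, 6, 2, 1, 0, 2, 3, 4, 2, 5, 6, 2, 1, 0, 2, 3, 4, 2, 5, 6, 2, 1, 0, 2, 3, 4, 2, 5, 6, 2, 1, 0, 2, 3, 4, 2, 5, 6, 2, 1, 0, 2, 3, 4, 2, 5, 6, 2, 1, 0, 2, 3, 4, 2, 5, 6]]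

theorem relA : ∀ w ∈ relW, ew A w = 1 := by
  intro w hw
  simp only [relW, List.mem_cons, List.not_mem_nil, or_false] at hw
  rcases hw with rfl | rfl | rfl | rfl | rfl | rfl | rfl | rfl | rfl | rfl | rfl | rfl | rfl | rfl | rfl | rfl | rfl | rfl | rfl | rfl | rfl | rfl | rfl | rfl | rfl | rfl | rfl | rfl | rfl | rfl
  · exact relA_0
  · exact relA_1
  · exact relA_2
  · exact relA_3
  · exact relA_4
  · exact relA_5
  · exact relA_6
  · exact relA_7
  · exact relA_8
  · exact relA_9
  · exact relA_10
  · exact relA_11
  · exact relA_12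
  · exact relA_13
  · exact relA_14
  · exact relA_15
  · exact relA_16
  · exact relA_17
  · exact relA_18
  · exact relA_19
  · exact relA_20
  · exact relA_21
  · exact relA_22
  · exact relA_23
  · exact relA_24
  · exact relA_25
  · exact relA_26
  · exact relA_27
  · exact relA_28
  · exact relA_29

/-- orbit certificate: 8 bits per vector code (depth: 5 bits, generator: 3 bits) -/
def orbT : ℕ := 0xf28000000082d0e000000350000000000100000001211000b6c00000046000000000032000000110800000000323100000033000009000000094e00000000c73000000011102d000000340000006d0a00000000000091000015106d000000000000000000240b0e000000080e0800000000000000000013473000123100000000000034000000000010102b002750000000000000650000142b4c0000000000002600001100006f000000000000000000103100091000102600000000000000000000300600473000301100000033000014000003290e004e0b000b4c000000520000250000320000000000000000000f2c000000150000000000008e28000000080000110000000c1100000012000000318600070f00000007000000000000521300000035000000091000000031000007000000ab0c00128b000000320000000000352e0f00000000100a0000000000001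00000000000081108000000000000330910000000254d0a00000000523300000000000054072f0000000000000700000000008d6e0f00000032692e000000000000000000000000000000260000900000330a11000f0a000f0a005126000751001031000000000000000000000000150000540000020000310000050000120d4a00108d00090d000000000000000000000000300000003031000000310000008a310000008a0000008c0d000000001213000000130000001253000000150000001051000000132e0f00000014000000500d00000012000000124d00000012000000000000000004692e000000000000482f480000000000000bab0c003211000000000000141413000000000000147011000000000000120000540d0c000000000000730b0e000000000000524b0c00000000301100492e002e06004a2f002f68002d4a000e6d000daa00090d00000072000034000023000055000053000022000053000072000024000000000000000000000000000000000000000000000000000000290e00000006000000000052000000110800000000325300000053000000298f0000008f0e2f0000003400000000000900000009100000000e0000008e0f000000003008000000062d6a000000330000000000264e2600000000000000000013275000145100000000000034090f000000000000270000352d0e00000000000000000012120b000000000000464b0c0030080000000000003000003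16c1100000000000000000000000000110800851100501100000014000035000003000011000007000014000000000000000000091000100b000b0e000e6f000bac006c48000000060000320000130000000000000000000000140000002f4800476d000000470000000000003013000000334e0f00000075000000000000290e000000120000630000000f0a0000000010a60000002600004f0000000c4f004b2c000000150000000000000000310731000000070d4a000000003231000000000000320000340d2e00000000096e000000000000270000000000111211004f28000000000000120000000000280f28000000332e0f00000000314600073100122f000000000000000000000000150000130000040000000000000000000000900000070000100f0a00b01100e50f000000640000120000512a0f004d0a000d2a000000000000000000000000001413000000540000001271000000150000005011000000710000a70000006730000000050000002d4a0000006a000000cb0c000f0a000000130000000d0c000000530000002b0c00000013000000521300000000000035121300000000000073126f00000000000052000000000030304b0000000000002f30310000000000000b6c0d000000130c31000000000000150e2f000000000000510e31000000000000540000540000210000b3000033000042000013000014000005492e00308900a92e002f6800122f00072f000bcc000e8d0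0ec6800000000000000000000000000000000000000000000000000000000000049000000490e00000000492e00000032102f0000003200000000004e000000104f000000005008000000082d4a000000530000000000340000000f280000000034330000007409100000002400000000000000008e6e0d004730000000000000470000142d6a000000000000000000060b4c000f0a000000000000320000534c11000000000000000000110911001415000000000000150000c41084000000000bac000e4b004b0c000000320000450000300000000000000000004e1100290e000e08000000060000520000110000000000000000006f080027af00320f000000350000350000000000000000000000000000000910000000510000250000000d2a00104d000000520000000000002f480000004600000f0000004c0f006b2c00000013000000000000141500000035000070000000d0280025110000002500000009100000000000000700000000000f104f000000544b2c000000002f480000000000001200000000000aad0a000000332e1100000000343300000000000055000000000015096e000000a30f0a000000000000120000070000124d0a00500f00274d000000000000000000000000460000310000310c6d000d4a006b0c000000000000000000000000340000150000411008002710006e1300000000000000000000300f00000014000000300d00000014000000b00d000000700000000d0c000000540000000b0e000000330000000d2a00000071000000492e00000004000000052f000000050000000c0a000000a80000000000920d0c000000000000140b0e000000000000120b4c000000000000130e2f00000000000013104f000000000000112c11000000000000063006000000000000052f8800000000000009698b00000000000000000000000000000000000000000000000000000000000000000000000000000000000000000000000000000000000000000000000000000000000000000000000000000000000000000000000000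

/-- depth of a vector code in the orbit tree -/
def dep (c : ℕ) : ℕ := orbT / 2 ^ (8 * c) % 32

/-- generator leading towards the root -/
def gj (c : ℕ) : ℕ := orbT / 2 ^ (8 * c + 5) % 8

/-- code of the root vector -/
def c0 : ℕ := 495

/-- the local check of the orbit certificate -/
def orbOK (c : ℕ) : Bool :=
  !(decide (Q7 (vN c) = -1)) || (c == c0) || decide (dep (vC (Matrix.mulVec (A (gj c)) (vN c))) < dep c)

theorem orb_all : ∀ c < 2187, orbOK c = true := by decide +kernel

theorem QV (k : ℕ) (hk : k < 8) : Q7 (vN (cV k)) = -1 := by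
  interval_cases k <;> decide +kernel

end Cfsg.Agent.Lib.Helper28.O7
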