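import Cfsg.Agent.Lib.Helper28.U6P8D

set_option autoImplicit false
set_option maxRecDepth 1000000

namespace Cfsg.Agent.Lib.Helper28.U6P8

open Cfsg.Agent.Lib.Helper56.TC Cfsg.Agent.Lib.Helper56.TC.Tabs

theorem cF_300 : allRange (fun x => forceN T.chkFinName x) 300 100 = true := by decide +kernel
theorem cF_400 : allRange (fun x => forceN T.chkFinName x) 400 100 = true := by decide +kernel
theorem cF_500 : allRange (fun x => forceN T.chkFinName x) 500 100 = true := by decide +kernel
theorem cF_600 : allRange (fun x => forceN T.chkFinName x) 600 100 = true := by decide +kernel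
theorem cF_700 : allRange (fun x => forceN T.chkFinName x) 700 100 = true := by decide +kernel
theorem cF_800 : allRange (fun x => forceN T.chkFinName x) 800 100 = true := by decide +kernel
theorem cF_900 : allRange (fun x => forceN T.chkFinName x) 900 100 = true := by decide +kernel
theorem cF_1000 : allRange (fun x => forceN T.chkFinName x) 1000 100 = true := by decide +kernel

end Cfsg.Agent.Lib.Helper28.U6P8
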